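import Cfsg.Agent.Fi23Spider.CA.Main
import Cfsg.Agent.CosetCert.Member

/-! Generated: the word lies in the subgroup. -/

namespace Cfsg.Agent.Fi23Spider.CA

open Cfsg.Agent.CosetCert

/-- The word. -/
def word : List (Fin 8 × Bool) := [(1, true), (5, true), (6, true), (7, true), (0, true), (2, true), (4, true), (3, true), (5, true), (6, true), (7, true), (0, true), (2, true), (4, true), (3, true), (5, true), (6, true), (7, true), (0, true), (2, true), (4, true), (3, true), (5, true), (6, true), (7, true), (0, true), (2, true), (4, true), (3, true), (5, true), (6, true), (7, true), (0, true), (2, true), (4, true), (3, true), (5, true), (6, true), (7, true), (0, true), (2, true), (4, true), (3, true), (5, true), (6, true), (7, true), (0, true), (2, true), (4, true), (3, true), (5, true), (6, true), (7, true), (0, true), (2, true), (4, true), (3, true), (5, true), (6, true), (7, true), (0, true), (2, true), (4, true), (3, true), (1, true)]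

theorem member : PresentedGroup.mk (wordRels relWords) (FreeGroup.mk word) ∈
    Data.sub (wordRels relWords) (subLetters.map FreeGroup.of) :=
  Data.mem_sub_of_path log_valid.mem_valid spells word 65 0x100000c07a8a01ea20000050000240000f00005c07aec01ebb807b1601ed480004500018407c1c01f29007d3c01f77007f16000654082420213000879c021e7808af80019840944c002cb409ac60665880090a001b4800520000f68002de020b0c080cd000498000d20002600006c00012807b660000c807b220000880001800004007aba01eae007ab60000280000600001007a9001ea3807a8c00000807a7e01e9f007a7a01ea1007a8201ea0000000 (by decide +kernel)

end Cfsg.Agent.Fi23Spider.CA
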